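/-
The theorem of the square for maps from products of pointed varieties to abelian varieties,
without smoothness of the varieties.
-/
import Groth.Agent.L26.Weil.AxesField
import Groth.Agent.L26.AV.NonNoethHom
import Groth.Agent.L26.AV.Hom
import Groth.Agent.L08.Cube.SliceFibre

set_option autoImplicit false
set_option linter.style.haveILetI false
set_option backward.defeqAttrib.useBackward true
set_option backward.isDefEq.respectTransparency false

open CategoryTheory CategoryTheory.Limits MonoidalCategory CartesianMonoidalCategory MonObj GrpObj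
  AlgebraicGeometry

universe u

namespace Groth.L00.Axes

variable {K : Type u} [Field K]

local notation "Sp" K => Over (Spec (CommRingCat.of K))

/-- `f(x₀,y₀)⁻¹ f(x₀,y) f(x,y₀)`. -/
noncomputable abbrev sq {X Y A : Sp K} [GrpObj A] (x₀ : 𝟙_ (Sp K) ⟶ X) (y₀ : 𝟙_ (Sp K) ⟶ Y) (f : X ⊗ Y ⟶ A) :
    X ⊗ Y ⟶ A :=
  (toUnit (X ⊗ Y) ≫ lift x₀ y₀ ≫ f)⁻¹ * (snd X Y ≫ lift (toUnit Y ≫ x₀) (𝟙 Y) ≫ f) *
    (fst X Y ≫ lift (𝟙 X) (toUnit X ≫ y₀) ≫ f)

theorem comm_identity {G : Type*} [CommGroup G] (c a b q P : G) :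
    (c⁻¹ * q * P)⁻¹ * (c⁻¹ * b * P) * (c⁻¹ * q * a) = c⁻¹ * b * a := by
  apply Additive.ofMul.injective
  simp only [ofMul_mul, ofMul_inv]
  abel

/-- A dense smooth open with a rational point, over an algebraically closed field. -/
theorem exists_smooth_open [IsAlgClosed K] (X : Sp K) [LocallyOfFiniteType X.hom] [QuasiCompact X.hom]
    [IsSeparated X.hom] [IsIntegral X.left] :
    ∃ (V : Sp K) (i : V ⟶ X) (_ : 𝟙_ (Sp K) ⟶ V), IsOpenImmersion i.left ∧ Smooth V.hom ∧
      IsSeparated V.hom ∧ QuasiCompact V.hom ∧ IsIntegral V.left ∧ Nonempty V.left := by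
  haveI : IsLocallyNoetherian X.left := LocallyOfFiniteType.isLocallyNoetherian X.hom
  haveI : CompactSpace X.left := HasAffineProperty.iff_of_isAffine.mp ‹QuasiCompact X.hom›
  haveI : AlgebraicGeometry.IsNoetherian X.left := {}
  haveI : LocallyOfFinitePresentation X.hom := inferInstance
  let U := X.hom.smoothLocus
  have hne : (U : Set X.left).Nonempty := X.hom.dense_smoothLocus_of_perfectField.nonempty
  haveI : JacobsonSpace X.left := LocallyOfFiniteType.jacobsonSpace X.hom
  obtain ⟨x, hxU, hxc⟩ := nonempty_inter_closedPoints hne U.2.isLocallyClosed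
  haveI : Nonempty U.toScheme := ⟨⟨x, hxU⟩⟩
  let V : Sp K := Over.mk (U.ι ≫ X.hom)
  haveI hsm : Smooth (U.ι ≫ X.hom) := by
    rw [← Scheme.Hom.smoothLocus_eq_top_iff, ← Scheme.Hom.preimage_smoothLocus_eq]
    exact U.ι_preimage_self
  haveI : IsLocallyNoetherian U.toScheme := isLocallyNoetherian_of_isOpenImmersion U.ι
  haveI : CompactSpace U.toScheme := isCompact_iff_compactSpace.mp
    (TopologicalSpace.NoetherianSpace.isCompact _)
  let p : 𝟙_ (Sp K) ⟶ X := Over.homMk (pointOfClosedPoint X.hom x hxc) (pointOfClosedPoint_comp X.hom x hxc)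
  have hp : ∀ z, p.left z ∈ U := fun z => by
    show pointOfClosedPoint X.hom x hxc z ∈ U
    rwa [pointOfClosedPoint_apply X.hom x hxc z]
  let pV : 𝟙_ (Sp K) ⟶ V := Over.homMk
    (IsOpenImmersion.lift U.ι p.left (fun z ⟨w, hw⟩ => ⟨⟨z, hw ▸ hp w⟩, rfl⟩)) (by
      show IsOpenImmersion.lift U.ι p.left _ ≫ U.ι ≫ X.hom = _
      rw [IsOpenImmersion.lift_fac_assoc]
      exact Over.w p)
  refine ⟨V, Over.homMk U.ι rfl, pV, inferInstanceAs (IsOpenImmersion U.ι), hsm, ?_, ?_, ?_, ‹_›⟩
  · exact inferInstanceAs (IsSeparated (U.ι ≫ X.hom))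
  · exact HasAffineProperty.iff_of_isAffine.mpr (inferInstanceAs (CompactSpace U.toScheme))
  · exact inferInstanceAs (IsIntegral U.toScheme)

theorem sq_of_algClosed [IsAlgClosed K] {X Y A : Sp K}
    [LocallyOfFiniteType X.hom] [QuasiCompact X.hom] [IsSeparated X.hom] [GeometricallyIntegral X.hom]
    [LocallyOfFiniteType Y.hom] [QuasiCompact Y.hom] [IsSeparated Y.hom] [GeometricallyIntegral Y.hom]
    [GrpObj A] [IsProper A.hom] [IsCommMonObj A]
    (x₀ : 𝟙_ (Sp K) ⟶ X) (y₀ : 𝟙_ (Sp K) ⟶ Y) (f : X ⊗ Y ⟶ A) : f = sq x₀ y₀ f := by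
  haveI : IsIntegral X.left := GeometricallyIntegral.isIntegral_of_subsingleton X.hom
  haveI : IsIntegral Y.left := GeometricallyIntegral.isIntegral_of_subsingleton Y.hom
  haveI : IsLocallyNoetherian X.left := LocallyOfFiniteType.isLocallyNoetherian X.hom
  haveI : IsIntegral (X ⊗ Y).left := by
    change IsIntegral (pullback X.hom Y.hom)
    infer_instance
  obtain ⟨V, i, v, hi, hVs, hVsep, hVqc, hVint, hVne⟩ := exists_smooth_open X
  obtain ⟨W, j, w, hj, hWs, hWsep, hWqc, hWint, hWne⟩ := exists_smooth_open Y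
  haveI : GeometricallyIntegral W.hom := Groth.L08.Cube.geometricallyIntegral_of_isAlgClosed W.hom
  have key : f = sq (v ≫ i) (w ≫ j) f := by
    let d := f * (sq (v ≫ i) (w ≫ j) f)⁻¹
    have hd : (i ⊗ₘ j) ≫ d = 1 := by
      refine Groth.L26.Weil.eq_one_of_axes_algClosed _ v w ?_ ?_
      · simp only [d, sq, MonObj.comp_mul, GrpObj.comp_inv, lift_map_assoc, Category.id_comp, Category.assoc,
          lift_fst_assoc, lift_snd_assoc, comp_lift_assoc, Category.comp_id, comp_toUnit_assoc]
        simp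
      · simp only [d, sq, MonObj.comp_mul, GrpObj.comp_inv, lift_map_assoc, Category.id_comp, Category.assoc,
          lift_fst_assoc, lift_snd_assoc, comp_lift_assoc, Category.comp_id, comp_toUnit_assoc]
        simp [mul_comm]
    haveI : IsOpenImmersion (i ⊗ₘ j).left := by
      rw [Over.tensorHom_left]
      infer_instance
    haveI : Nonempty (V ⊗ W).left := ⟨(lift v w).left (IsLocalRing.closedPoint K)⟩
    haveI : IsDominant (i ⊗ₘ j).left := ⟨(i ⊗ₘ j).left.isOpenEmbedding.isOpen_range.dense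
      (Set.range_nonempty _)⟩
    have h1 : (i ⊗ₘ j) ≫ f = (i ⊗ₘ j) ≫ sq (v ≫ i) (w ≫ j) f := by
      rwa [MonObj.comp_mul, GrpObj.comp_inv, mul_inv_eq_one] at hd
    exact Over.OverMorphism.ext (ext_of_isDominant_of_isSeparated A.hom
      ((Over.w f).trans (Over.w (sq (v ≫ i) (w ≫ j) f)).symm) (i ⊗ₘ j).left (congrArg CommaMorphism.left h1))
  conv_rhs => rw [key]
  conv_lhs => rw [key]
  simp only [sq, MonObj.comp_mul, GrpObj.comp_inv, lift_fst_assoc, lift_snd_assoc, Category.assoc,
    comp_lift_assoc, Category.id_comp, Category.comp_id, comp_toUnit_assoc]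
  simp only [lift_fst, lift_snd]
  exact (comm_identity _ _ _ _ _).symm

open Functor in
/-- The general case. -/
theorem sq_eq {X Y A : Sp K}
    [LocallyOfFiniteType X.hom] [QuasiCompact X.hom] [IsSeparated X.hom] [GeometricallyIntegral X.hom]
    [LocallyOfFiniteType Y.hom] [QuasiCompact Y.hom] [IsSeparated Y.hom] [GeometricallyIntegral Y.hom]
    [GrpObj A] [IsProper A.hom] [Smooth A.hom] [GeometricallyIntegral A.hom]
    (x₀ : 𝟙_ (Sp K) ⟶ X) (y₀ : 𝟙_ (Sp K) ⟶ Y) (f : X ⊗ Y ⟶ A) : f = sq x₀ y₀ f := by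
  let b := Spec.map (CommRingCat.ofHom <| algebraMap K (AlgebraicClosure K))
  let F := Over.pullback b
  have : LocallyOfFiniteType (F.obj X).hom := by dsimp [F]; infer_instance
  have : LocallyOfFiniteType (F.obj Y).hom := by dsimp [F]; infer_instance
  have : IsSeparated (F.obj X).hom := by dsimp [F]; infer_instance
  have : IsSeparated (F.obj Y).hom := by dsimp [F]; infer_instance
  have : QuasiCompact (F.obj X).hom := by dsimp [F]; infer_instance
  have : QuasiCompact (F.obj Y).hom := by dsimp [F]; infer_instance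
  have : GeometricallyIntegral (F.obj X).hom := by dsimp [F]; infer_instance
  have : GeometricallyIntegral (F.obj Y).hom := by dsimp [F]; infer_instance
  have : IsProper (F.obj A).hom := by dsimp [F]; infer_instance
  letI : GrpObj (F.obj A) := Functor.grpObjObj
  haveI : Smooth (F.obj A).hom := by dsimp [F]; infer_instance
  haveI : GeometricallyIntegral (F.obj A).hom := by dsimp [F]; infer_instance
  haveI : IsCommMonObj (F.obj A) := Groth.Agent.AV.isCommMonObj_base (F.obj A)
  have key := sq_of_algClosed (LaxMonoidal.ε F ≫ F.map x₀) (LaxMonoidal.ε F ≫ F.map y₀)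
    (LaxMonoidal.μ F X Y ≫ F.map f)
  apply F.map_injective
  rw [← cancel_epi (LaxMonoidal.μ F X Y), key]
  simp only [sq, F.map_mul, F.map_inv', MonObj.comp_mul, GrpObj.comp_inv, F.map_comp]
  congr 1
  congr 1
  · congr 1
    simp only [← Monoidal.lift_μ, Groth.Agent.AV.map_toUnit, Category.assoc, comp_lift_assoc, ← Category.assoc]
    simp
  · simp only [← Monoidal.lift_μ, Groth.Agent.AV.map_toUnit, Category.assoc, comp_lift_assoc,
      Monoidal.μ_snd_assoc, F.map_id, F.map_comp]
  · simp only [← Monoidal.lift_μ, Groth.Agent.AV.map_toUnit, Category.assoc, comp_lift_assoc,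
      Monoidal.μ_fst_assoc, F.map_id, F.map_comp]

end Groth.L00.Axes
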